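import Groth.Agent.H4Depth.Regular
import Groth.Agent.H4Depth.IdealDepth
import Groth.Agent.H4LC.Annihilation
import Mathlib.Algebra.Homology.DerivedCategory.Ext.ExactSequences

/-!
# The top `Ext` of modules killed by an ideal of a regular local ring
-/

set_option autoImplicit false
set_option linter.style.haveILetI false
universe u

open CategoryTheory CategoryTheory.Abelian IsLocalRing

namespace Groth.Agent.H4ExtTop

theorem le_idealDepth {A : Type u} [CommRing A] [IsRegularLocalRing A] {p : ℕ} {J : Ideal A}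
    (hJ : ringKrullDim (A ⧸ J) + p ≤ ringKrullDim A) : (p : ℕ∞) ≤ LocCoh.idealDepth J A := by
  by_cases hJT : J = ⊤
  · rw [H4Depth.idealDepth_eq_top (by rw [hJT, Submodule.top_smul])]
    exact le_top
  have hne : J • (⊤ : Submodule A A) ≠ ⊤ := by rwa [smul_eq_mul, Ideal.mul_top]
  have h1 := H4LC.depth_le_idealDepth_add_dim (R := A) (M := A) hne
  rw [H4Depth.depth_self_eq_ringKrullDim_of_regular] at h1
  have h2 := hJ.trans h1
  haveI : Nontrivial (A ⧸ J) := Ideal.Quotient.nontrivial_iff.2 hJT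
  obtain ⟨d, hd⟩ : ∃ d : ℕ, ringKrullDim (A ⧸ J) = d := by
    have h0 : ringKrullDim (A ⧸ J) ≠ ⊥ := fun h => by
      have := ringKrullDim_nonneg_of_nontrivial (R := A ⧸ J)
      rw [h] at this
      exact WithBot.not_coe_le_bot _ this
    have h3 : ringKrullDim (A ⧸ J) ≠ ⊤ := fun h => (ringKrullDim_ne_top (R := A))
      (top_le_iff.1 (h ▸ ringKrullDim_quotient_le J))
    revert h0 h3
    generalize ringKrullDim (A ⧸ J) = a
    intro h0 h3
    cases a with
    | bot => exact absurd rfl h0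
    | coe a =>
      induction a using ENat.recTopCoe with
      | top => exact absurd rfl h3
      | coe k => exact ⟨k, rfl⟩
  rw [hd] at h2
  revert h2
  generalize LocCoh.idealDepth J A = e
  intro h2
  induction e using ENat.recTopCoe with
  | top => exact le_top
  | coe e =>
    have : d + p ≤ e + d := by exact_mod_cast h2
    exact_mod_cast (show p ≤ e by omega)

variable {A : Type u} [CommRing A] {p : ℕ} {J : Ideal A}

theorem subsingleton_ext {K : Type u} [AddCommGroup K] [Module A K] [IsNoetherianRing A] [Module.Finite A K]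
    (hd : (p : ℕ∞) ≤ LocCoh.idealDepth J A) (hK : J ≤ Module.annihilator A K) {i : ℕ} (hi : i < p) :
    Subsingleton (Ext (ModuleCat.of A K) (ModuleCat.of A A) i) :=
  H4Depth.subsingleton_ext_of_lt_idealDepth _
    (Module.support_eq_zeroLocus.subset.trans (PrimeSpectrum.zeroLocus_anti_mono hK)) i
    (lt_of_lt_of_le (by exact_mod_cast hi) hd)

theorem injective_pullback_of_surjective [IsNoetherianRing A] (hd : (p : ℕ∞) ≤ LocCoh.idealDepth J A)
    {M : Type u} [AddCommGroup M] [Module A M] [Module.Finite A M] (hM : J ≤ Module.annihilator A M)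
    (ξ : Ext (ModuleCat.of A M) (ModuleCat.of A A) p)
    (h : ∀ u : (A ⧸ J) →ₗ[A] M, (Ext.mk₀ (ModuleCat.ofHom u)).comp ξ (zero_add p) = 0) : ξ = 0 := by
  obtain ⟨n, π₀, hπ₀⟩ := Module.Finite.exists_fin' A M
  let π : (Fin n → A ⧸ J) →ₗ[A] M := ∑ i, (J.liftQ (LinearMap.toSpanSingleton A M (π₀ (Pi.single i 1)))
    fun a ha => Module.mem_annihilator.1 (hM ha) _) ∘ₗ LinearMap.proj i
  have hπ : Function.Surjective π := fun m => by
    obtain ⟨v, rfl⟩ := hπ₀ m
    refine ⟨fun i => Ideal.Quotient.mk J (v i), ?_⟩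
    conv_rhs => rw [pi_eq_sum_univ' v]
    simp only [π, LinearMap.sum_apply, LinearMap.comp_apply, LinearMap.proj_apply, map_sum, map_smul]
    rfl
  haveI : Module.Finite A (LinearMap.ker π) := Module.Finite.of_fg (IsNoetherian.noetherian _)
  have hS := Groth.Agent.H4Depth.shortComplexOf_shortExact (LinearMap.ker π).subtype π
    (LinearMap.ker π).injective_subtype hπ (LinearMap.exact_subtype_ker_map π)
  have hKann : J ≤ Module.annihilator A (LinearMap.ker π) := fun a ha =>
    Module.mem_annihilator.2 fun z => Subtype.ext (funext fun i => by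
      obtain ⟨b, hb⟩ := Ideal.Quotient.mk_surjective ((z : Fin n → A ⧸ J) i)
      show a • (z : Fin n → A ⧸ J) i = 0
      rw [← hb]
      exact Ideal.Quotient.eq_zero_iff_mem.2 (J.mul_mem_right b ha))
  have h0 : (Ext.mk₀ (ModuleCat.ofHom π)).comp ξ (zero_add p) = 0 := by
    have hid : ModuleCat.ofHom π = ∑ i : Fin n, ModuleCat.ofHom (LinearMap.proj (R := A) (φ := fun _ : Fin n => A ⧸ J) i) ≫
        ModuleCat.ofHom (π ∘ₗ LinearMap.single A (fun _ : Fin n => A ⧸ J) i) := by
      refine ModuleCat.hom_ext ?_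
      rw [ModuleCat.hom_sum]
      refine LinearMap.ext fun v => ?_
      conv_lhs => rw [ModuleCat.hom_ofHom, ← Finset.univ_sum_single v, map_sum]
      rw [LinearMap.sum_apply]
      rfl
    rw [hid, Ext.mk₀_sum, Ext.sum_comp]
    refine Finset.sum_eq_zero fun i _ => ?_
    rw [← Ext.mk₀_comp_mk₀_assoc, h, Ext.comp_zero]
  cases p with
  | zero =>
    haveI : Epi (ModuleCat.ofHom π) := hS.epi_g
    obtain ⟨f, rfl⟩ := (Ext.addEquiv₀.symm).surjective ξ
    change (Ext.mk₀ _).comp (Ext.mk₀ f) _ = 0 at h0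
    rw [Ext.mk₀_comp_mk₀] at h0
    show Ext.mk₀ f = 0
    have : ModuleCat.ofHom π ≫ f = 0 := (Ext.addEquiv₀.symm).injective (h0.trans (map_zero Ext.addEquiv₀.symm).symm)
    rw [show f = 0 from (cancel_epi (ModuleCat.ofHom π)).1 (this.trans Limits.comp_zero.symm), Ext.mk₀_zero]
  | succ q =>
    obtain ⟨z, rfl⟩ := Ext.contravariant_sequence_exact₃ hS _ ξ h0 (n₀ := q) (add_comm 1 q)
    have hz : z = 0 := @Subsingleton.elim _ (subsingleton_ext hd hKann (Nat.lt_succ_self q)) _ _
    rw [hz, Ext.comp_zero]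
    rfl

theorem exists_preimage [IsNoetherianRing A] (hd : (p : ℕ∞) ≤ LocCoh.idealDepth J A)
    {M : Type u} [AddCommGroup M] [Module A M] [Module.Finite A M] (hM : J ≤ Module.annihilator A M)
    (g : ((A ⧸ J) →ₗ[A] M) →ₗ[A] Ext (ModuleCat.of A (A ⧸ J)) (ModuleCat.of A A) p) :
    ∃ ξ : Ext (ModuleCat.of A M) (ModuleCat.of A A) p, ∀ u : (A ⧸ J) →ₗ[A] M,
      g u = (Ext.mk₀ (ModuleCat.ofHom u)).comp ξ (zero_add p) := by
  obtain ⟨n, π₀, hπ₀⟩ := Module.Finite.exists_fin' A M
  let c : Fin n → (A ⧸ J) →ₗ[A] M := fun i => J.liftQ (LinearMap.toSpanSingleton A M (π₀ (Pi.single i 1)))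
    fun a ha => Module.mem_annihilator.1 (hM ha) _
  let π : (Fin n → A ⧸ J) →ₗ[A] M := ∑ i, c i ∘ₗ LinearMap.proj i
  have hπ : Function.Surjective π := fun m => by
    obtain ⟨v, rfl⟩ := hπ₀ m
    refine ⟨fun i => Ideal.Quotient.mk J (v i), ?_⟩
    conv_rhs => rw [pi_eq_sum_univ' v]
    simp only [π, c, LinearMap.sum_apply, LinearMap.comp_apply, LinearMap.proj_apply, map_sum, map_smul]
    rfl
  let η : Ext (ModuleCat.of A (Fin n → A ⧸ J)) (ModuleCat.of A A) p :=
    ∑ i, (Ext.mk₀ (ModuleCat.ofHom (LinearMap.proj (R := A) (φ := fun _ : Fin n => A ⧸ J) i))).comp (g (c i)) (zero_add p)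
  have hη : ∀ v : (A ⧸ J) →ₗ[A] (Fin n → A ⧸ J),
      (Ext.mk₀ (ModuleCat.ofHom v)).comp η (zero_add p) = g (π ∘ₗ v) := by
    intro v
    have key : ∀ (w : (A ⧸ J) →ₗ[A] (A ⧸ J)) (d : (A ⧸ J) →ₗ[A] M),
        (Ext.mk₀ (ModuleCat.ofHom w)).comp (g d) (zero_add p) = g (d ∘ₗ w) := by
      intro w d
      obtain ⟨a, ha⟩ := Ideal.Quotient.mk_surjective (w (Ideal.Quotient.mk J 1))
      have hw : w = a • LinearMap.id := Submodule.linearMap_qext _ (LinearMap.ext_ring (ha.symm.trans
        (congrArg (Ideal.Quotient.mk J) (mul_one a).symm)))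
      rw [hw, show ModuleCat.ofHom (a • LinearMap.id : (A ⧸ J) →ₗ[A] A ⧸ J) = a • 𝟙 (ModuleCat.of A (A ⧸ J)) from rfl,
        Ext.mk₀_smul, Ext.smul_comp, Ext.mk₀_id_comp, LinearMap.comp_smul, LinearMap.comp_id, map_smul]
    simp only [η, Ext.comp_sum]
    rw [show π ∘ₗ v = ∑ i, c i ∘ₗ (LinearMap.proj i ∘ₗ v) from LinearMap.ext fun q => by
      simp [π, LinearMap.sum_apply], map_sum]
    refine Finset.sum_congr rfl fun i _ => ?_
    rw [← key (LinearMap.proj i ∘ₗ v) (c i), Ext.mk₀_comp_mk₀_assoc]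
    rfl
  have hS := Groth.Agent.H4Depth.shortComplexOf_shortExact (LinearMap.ker π).subtype π
    (LinearMap.ker π).injective_subtype hπ (LinearMap.exact_subtype_ker_map π)
  haveI : Module.Finite A (LinearMap.ker π) := Module.Finite.of_fg (IsNoetherian.noetherian _)
  have hKann : J ≤ Module.annihilator A (LinearMap.ker π) := fun a ha =>
    Module.mem_annihilator.2 fun z => Subtype.ext (funext fun i => by
      obtain ⟨b, hb⟩ := Ideal.Quotient.mk_surjective ((z : Fin n → A ⧸ J) i)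
      show a • (z : Fin n → A ⧸ J) i = 0
      rw [← hb]
      exact Ideal.Quotient.eq_zero_iff_mem.2 (J.mul_mem_right b ha))
  have hres : (Ext.mk₀ (ModuleCat.ofHom (LinearMap.ker π).subtype)).comp η (zero_add p) = 0 :=
    injective_pullback_of_surjective hd hKann _ fun u => by
      rw [Ext.mk₀_comp_mk₀_assoc]
      refine (hη ((LinearMap.ker π).subtype ∘ₗ u)).trans ?_
      rw [show π ∘ₗ (LinearMap.ker π).subtype ∘ₗ u = 0 from LinearMap.ext fun q => (u q).2, map_zero]
  obtain ⟨ξ, hξ⟩ := Ext.contravariant_sequence_exact₂ hS _ η hres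
  refine ⟨ξ, fun u => ?_⟩
  obtain ⟨e, he⟩ := hπ (u (Ideal.Quotient.mk J 1))
  have hle : J ≤ LinearMap.ker (LinearMap.toSpanSingleton A (Fin n → A ⧸ J) e) := fun a ha => funext fun i => by
    obtain ⟨b, hb⟩ := Ideal.Quotient.mk_surjective (e i)
    show a • e i = 0
    rw [← hb]
    exact Ideal.Quotient.eq_zero_iff_mem.2 (J.mul_mem_right b ha)
  have hu : u = π ∘ₗ J.liftQ _ hle := Submodule.linearMap_qext _ (LinearMap.ext_ring (by
    show u (Ideal.Quotient.mk J 1) = π ((1 : A) • e)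
    rw [one_smul, he]))
  rw [hu, ← hη, ← hξ]
  refine (Ext.mk₀_comp_mk₀_assoc _ _ _).trans ?_
  rfl

end Groth.Agent.H4ExtTop
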